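import Groth.Agent.Sga4h.ModRestr
import Groth.Agent.Sga4h.Dbc323
import Groth.Agent.Sga4h.H299.ExtBC
import Groth.Agent.Etcore.LFreePull
import Groth.Agent.Etcore.LPres
import Groth.Prelude.Def_SixF2
import Mathlib.CategoryTheory.ObjectProperty.FiniteProducts

/-!
# Extension by zero and constructible sheaves of `Λ`-modules

* `nonempty_ext_LM` : `j_! Λ[U] ≅ Λ[U]`;
* `nonempty_LM_iso_extConst` : `Λ[U] ≅ j_! Λ`;
* `isConstructible_biproduct`, `isConstructible_of_homology`;
* `isConstructible_ext` : `j_! F` is constructible for `j` étale, quasi-compact and quasi-separated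
  and `F` constructible, on arbitrary schemes and for `Λ` Noetherian.
-/

set_option autoImplicit false
set_option linter.deprecated false
set_option linter.unusedSectionVars false
universe u

open CategoryTheory CategoryTheory.Limits AlgebraicGeometry Opposite

namespace K733.EtModBase

open Groth.Agent.Etcore Groth.Agent.Etcore.LVan Groth.Agent.Etcore.LFree Groth.Agent.Sga4h Groth.Agent.Sga4h.ModRestr
  Groth.Agent.Sga4h.EtaleRes

variable {Λ : Type (u + 1)} [CommRing Λ]

attribute [local instance] jCont Abelian.hasFiniteBiproducts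

section Ext

variable {V X : Scheme.{u}} (j : V ⟶ X) [Etale j]

/-- `j_! Λ[U]` represents sections over `U`. -/
theorem bijective_ext_LM (U : V.Etale) (G : EtModW.Mod Λ X) :
    Function.Bijective (fun f : (ext Λ j).obj (LM Λ U) ⟶ G =>
      ev f ((EtShriek.compEtale j).obj U) (ev ((extResAdj Λ j).unit.app (LM Λ U)) U (gen Λ U))) :=
  (homEquiv U ((res Λ j).obj G)).bijective.comp ((extResAdj Λ j).homEquiv (LM Λ U) G).bijective

/-- `j_! Λ[U] ≅ Λ[U]`. -/
theorem nonempty_ext_LM (U : V.Etale) :
    Nonempty (LM Λ ((EtShriek.compEtale j).obj U) ≅ (ext Λ j).obj (LM Λ U)) := by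
  let U' := (EtShriek.compEtale j).obj U
  let e : EtModW.sect Λ ((ext Λ j).obj (LM Λ U)) U' := ev ((extResAdj Λ j).unit.app (LM Λ U)) U (gen Λ U)
  let f : LM Λ U' ⟶ (ext Λ j).obj (LM Λ U) := desc e
  obtain ⟨g, hg⟩ := (bijective_ext_LM (Λ := Λ) j U (LM Λ U')).2 (gen Λ U')
  refine ⟨⟨f, g, ?_, ?_⟩⟩
  · apply hom_ext
    change ev g U' (ev f U' (gen Λ U')) = gen Λ U'
    rw [desc_gen]
    exact hg
  · apply (bijective_ext_LM (Λ := Λ) j U _).1
    change ev f U' (ev g U' e) = e
    have h : ev g U' e = gen Λ U' := hg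
    rw [h, desc_gen]

end Ext

section Const

variable {X U : Scheme.{u}}

/-- The final object of the small etale site. -/
noncomputable abbrev topE (X : Scheme.{u}) : X.Etale := Scheme.Etale.mk (𝟙 X)

noncomputable instance uniqueHom (V : X.Etale) : Unique (V ⟶ topE X) where
  default := MorphismProperty.Over.homMk V.hom (Category.comp_id _)
  uniq f := by
    apply MorphismProperty.Over.Hom.ext
    change f.left = V.hom
    exact (Category.comp_id _).symm.trans (MorphismProperty.Over.w f)

/-- `Λ[X]` is the constant sheaf. -/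
noncomputable def isoConst : LM Λ (topE X) ≅ EtModW.constMod Λ X Λ :=
  (presheafToSheaf X.smallEtaleTopology (ModuleCat.{u + 1} Λ)).mapIso
    (NatIso.ofComponents (fun V => (Finsupp.LinearEquiv.finsuppUnique Λ Λ (V.unop ⟶ topE X)).toModuleIso)
      (fun {V W} g => by
        ext1
        refine Finsupp.lhom_ext' fun h => LinearMap.ext_ring ?_
        change (Finsupp.LinearEquiv.finsuppUnique Λ Λ (unop W ⟶ topE X))
            (Finsupp.mapDomain (fun h => g.unop ≫ h) (Finsupp.single h 1)) =
          (Finsupp.LinearEquiv.finsuppUnique Λ Λ (unop V ⟶ topE X)) (Finsupp.single h 1)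
        rw [Finsupp.mapDomain_single, Finsupp.LinearEquiv.finsuppUnique_apply,
          Finsupp.LinearEquiv.finsuppUnique_apply, Unique.eq_default (g.unop ≫ h), Unique.eq_default h,
          Finsupp.single_eq_same, Finsupp.single_eq_same]))

/-- `Λ[U] ≅ j_! Λ` for an etale `j : U ⟶ X`. -/
theorem nonempty_LM_iso_ext (j : U ⟶ X) [Etale j] :
    Nonempty (LM Λ (Scheme.Etale.mk j) ≅ (ext Λ j).obj (EtModW.constMod Λ U Λ)) := by
  obtain ⟨e⟩ := nonempty_ext_LM (Λ := Λ) j (topE U)
  let i : (EtShriek.compEtale j).obj (topE U) ≅ Scheme.Etale.mk j :=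
    MorphismProperty.Over.isoMk (Iso.refl _) (by
      change 𝟙 U ≫ j = 𝟙 U ≫ j
      rfl)
  exact ⟨(LMF (Λ := Λ) X).mapIso i.symm ≪≫ e ≪≫ (ext Λ j).mapIso (isoConst)⟩

/-- `Λ[U] ≅ j_! Λ` for the prelude's `j_!`. -/
theorem nonempty_LM_iso_extZero (j : U ⟶ X) [Etale j] [EtShriek.JCont j] :
    Nonempty (LM Λ (Scheme.Etale.mk j) ≅ (EtSix.extZeroMod Λ j).obj (EtSix.constΛ Λ U)) :=
  nonempty_LM_iso_ext j

/-- the case of an object of the small étale site -/
theorem nonempty_LM_iso_extZero' (W : X.Etale) [EtShriek.JCont W.hom] :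
    Nonempty (LM Λ W ≅ (EtSix.extZeroMod Λ W.hom).obj (EtSix.constΛ Λ W.left)) :=
  nonempty_LM_iso_ext W.hom

end Const

section Cons

variable [IsNoetherianRing Λ] {X : Scheme.{u}}

open Dbc323

theorem isConstructible_biprod {F G : EtModW.Mod Λ X} (hF : EtModW.IsConstructible Λ F)
    (hG : EtModW.IsConstructible Λ G) : EtModW.IsConstructible Λ (F ⊞ G) := by
  let S : ShortComplex (EtModW.Mod Λ X) := ShortComplex.mk (biprod.inl : F ⟶ F ⊞ G) (biprod.snd : F ⊞ G ⟶ G)
    biprod.inl_snd
  have s : S.Splitting :=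
    { r := biprod.fst
      s := biprod.inr }
  exact isConstructible_extension s.shortExact hF hG

instance : (consM Λ X).IsClosedUnderBinaryProducts where
  limitsOfShape_le := by
    rintro Y ⟨p⟩
    refine (consM Λ X).prop_of_iso ?_ (isConstructible_biprod (p.prop_diag_obj (.mk .left))
      (p.prop_diag_obj (.mk .right)))
    exact biprod.isoProd _ _ ≪≫ IsLimit.conePointUniqueUpToIso (prodIsProd _ _)
      ((IsLimit.postcomposeHomEquiv (diagramIsoPair p.diag) _).2 p.isLimit)

instance : (consM Λ X).IsClosedUnderFiniteProducts := .mk'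

theorem isConstructible_biproduct {ι : Type} [Finite ι] (f : ι → EtModW.Mod Λ X)
    (hf : ∀ i, EtModW.IsConstructible Λ (f i)) : EtModW.IsConstructible Λ (⨁ f) :=
  (consM Λ X).prop_of_isLimit_fan (biproduct.isLimit f) hf

/-- The homology of a complex with constructible terms is constructible. -/
theorem isConstructible_homology {ι : Type*} {c : ComplexShape ι} (K : HomologicalComplex (EtModW.Mod Λ X) c)
    (hK : ∀ i, EtModW.IsConstructible Λ (K.X i)) (i : ι) : EtModW.IsConstructible Λ (K.homology i) := by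
  have h1 : EtModW.IsConstructible Λ (kernel (K.d i (c.next i))) := isConstructible_kernel _ (hK _) (hK _)
  have h2 : EtModW.IsConstructible Λ (K.cycles i) :=
    (consM Λ X).prop_of_iso (K.cyclesIsKernel i _ rfl |>.conePointUniqueUpToIso (kernelIsKernel _)).symm h1
  exact (consM Λ X).prop_of_isColimit_cokernelCofork (K.homologyIsCokernel _ i rfl) (hK _) h2

/-- A constructible sheaf on a quasi-compact and quasi-separated scheme is a cokernel of finite sums of
`Λ[U]`. -/
theorem exists_presentation [CompactSpace X] [QuasiSeparatedSpace X] {F : EtModW.Mod Λ X}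
    (hF : EtModW.IsConstructible Λ F) :
    ∃ (n : ℕ) (U : Fin n → X.Etale) (_ : ∀ i, IsAffine (U i).left)
      (m : ℕ) (V : Fin m → X.Etale) (_ : ∀ i, IsAffine (V i).left)
      (q : (⨁ fun i => LM Λ (V i)) ⟶ ⨁ fun i => LM Λ (U i)), Nonempty (cokernel q ≅ F) := by
  obtain ⟨n, U, hU, p, hp⟩ := LPres.exists_epi_biproduct hF
  have h1 : EtModW.IsConstructible Λ (kernel p) := by
    refine isConstructible_kernel _ (isConstructible_biproduct _ fun i => ?_) hF
    have := hU i
    exact LFreePull.isConstructible_LM_of_affine (U i)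
  obtain ⟨m, V, hV, q, hq⟩ := LPres.exists_epi_biproduct h1
  refine ⟨n, U, hU, m, V, hV, q ≫ kernel.ι p, ⟨?_⟩⟩
  exact cokernelEpiComp q (kernel.ι p) ≪≫
    (cokernelIsCokernel (kernel.ι p)).coconePointUniqueUpToIso (Abelian.epiIsCokernelOfKernel _ (limit.isLimit (parallelPair p 0)))

end Cons

section ExtCons

variable [IsNoetherianRing Λ] {V X : Scheme.{u}} (j : V ⟶ X) [Etale j]

open Dbc323

theorem isConstructible_ext_LM [QuasiCompact j] [QuasiSeparated j] (U : V.Etale)
    [QuasiCompact U.hom] [QuasiSeparated U.hom] : EtModW.IsConstructible Λ ((ext Λ j).obj (LM Λ U)) := by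
  refine LCrit.isConstructible_of_iso (nonempty_ext_LM j U).some ?_
  have h1 : QuasiCompact ((EtShriek.compEtale j).obj U).hom :=
    (inferInstance : QuasiCompact (U.hom ≫ j))
  have h2 : QuasiSeparated ((EtShriek.compEtale j).obj U).hom :=
    (inferInstance : QuasiSeparated (U.hom ≫ j))
  exact LFreePull.isConstructible_LM _

theorem isConstructible_ext_of_qcqs [QuasiCompact j] [QuasiSeparated j] [CompactSpace V] [QuasiSeparatedSpace V]
    {F : EtModW.Mod Λ V} (hF : EtModW.IsConstructible Λ F) : EtModW.IsConstructible Λ ((ext Λ j).obj F) := by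
  obtain ⟨n, U, hU, m, W, hW, q, ⟨e⟩⟩ := exists_presentation hF
  have h1 : ∀ (m : ℕ) (W : Fin m → V.Etale) (_ : ∀ i, IsAffine (W i).left),
      EtModW.IsConstructible Λ ((ext Λ j).obj (⨁ fun i => LM Λ (W i))) := by
    intro m W hW
    refine LCrit.isConstructible_of_iso ((ext Λ j).mapBiproduct (fun i => LM Λ (W i))).symm ?_
    refine isConstructible_biproduct _ fun i => ?_
    have := hW i
    have h1 : QuasiCompact (W i).hom := quasiCompact_of_compactSpace (X := (W i).left) (Y := V) (W i).hom
    have h2 : QuasiSeparated (W i).hom := by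
      have : QuasiSeparatedSpace (W i).left := inferInstance
      exact Groth.Agent.EtpbcA.GeomSplit.quasiSeparated_of_space (A := (W i).left) (B := V) (W i).hom
    exact isConstructible_ext_LM j (W i)
  refine LCrit.isConstructible_of_iso ((PreservesCokernel.iso (ext Λ j) q).symm ≪≫ (ext Λ j).mapIso e) ?_
  exact isConstructible_cokernel _ (h1 _ _ hW) (h1 _ _ hU)

/-- `j_!` preserves constructible sheaves for `j` étale, quasi-compact and quasi-separated. -/
theorem isConstructible_ext [QuasiCompact j] [QuasiSeparated j]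
    {F : EtModW.Mod Λ V} (hF : EtModW.IsConstructible Λ F) : EtModW.IsConstructible Λ ((ext Λ j).obj F) := by
  have key : ∀ x : X, ∃ W : X.Opens, IsAffineOpen W ∧ x ∈ W := fun x => by
    obtain ⟨W, hW, hx, -⟩ := exists_isAffineOpen_mem_and_subset (X := X) (U := (⊤ : X.Opens))
      (x := x) (by trivial)
    exact ⟨W, hW, hx⟩
  choose W hW hxW using key
  refine LCrit.isConstructible_of_open_cover _ W (fun x => ⟨x, hxW x⟩) fun x => ?_
  have : IsAffine (W x).toScheme := hW x
  refine LCrit.isConstructible_of_iso ((H299.ExtBC.extPull Λ j (W x).ι (pullback.snd j (W x).ι)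
    (pullback.fst j (W x).ι) (IsPullback.of_hasPullback j (W x).ι).flip).app F) ?_
  have h1 : CompactSpace ↥(pullback j (W x).ι) :=
    QuasiCompact.compactSpace_of_compactSpace (pullback.snd j (W x).ι)
  have h2 : QuasiSeparatedSpace ↥(pullback j (W x).ι) :=
    quasiSeparatedSpace_of_quasiSeparated (pullback.snd j (W x).ι)
  exact isConstructible_ext_of_qcqs _ (LCrit.isConstructible_pull _ F hF)

/-- `j_!` preserves constructible sheaves for `j` étale, quasi-compact and quasi-separated. -/
theorem isConstructible_extZeroMod [QuasiCompact j] [QuasiSeparated j] [EtShriek.JCont j]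
    {F : EtModW.Mod Λ V} (hF : EtModW.IsConstructible Λ F) :
    EtModW.IsConstructible Λ ((EtSix.extZeroMod Λ j).obj F) :=
  isConstructible_ext j hF

end ExtCons

end K733.EtModBase
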