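import Groth.Agent.EtModD.K733.Lift
import Groth.Agent.PerfB.LeftRes
import Groth.Prelude.Def_EtModD2

/-!
# Resolutions of bounded above complexes with constructible cohomology by finite sums of `Λ[U]`

* `LFin Λ X` : the sheaves isomorphic to a finite direct sum of `Λ[U]`, `U` étale over `X` and affine;
* `hasCovers`, `exists_resolution`.
-/

set_option autoImplicit false
universe u v w

open CategoryTheory CategoryTheory.Limits AlgebraicGeometry Opposite
attribute [local instance] HasDerivedCategory.standard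

namespace K733.EtModResol

open Groth.Agent.Etcore Groth.Agent.Etcore.LVan Groth.Agent.Etcore.LFree Groth.Agent.Sga4h.Dbc323
  Groth.Agent.PerfB.LeftRes K733.EtModBase K733.EtModLift Groth.Agent.PerfA.CohomIn

attribute [local instance] Abelian.hasFiniteBiproducts

variable (Λ : Type (u + 1)) [CommRing Λ] (X : Scheme.{u})

/-- Sheaves isomorphic to a finite direct sum of sheaves `Λ[U]`, `U` affine. -/
def LFin : ObjectProperty (EtModW.Mod Λ X) := fun F =>
  ∃ (m : ℕ) (W : Fin m → X.Etale) (_ : ∀ j, IsAffine (W j).left), Nonempty (F ≅ ⨁ fun j => LM Λ (W j))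

variable {Λ X}

instance : (LFin Λ X).IsClosedUnderIsomorphisms where
  of_iso := by
    rintro F G e ⟨m, W, hW, ⟨i⟩⟩
    exact ⟨m, W, hW, ⟨e.symm ≪≫ i⟩⟩

instance : (LFin Λ X).ContainsZero where
  exists_zero := by
    let W : Fin 0 → X.Etale := fun i => i.elim0
    refine ⟨⨁ fun j => LM Λ (W j), ?_, 0, W, fun j => j.elim0, ⟨Iso.refl _⟩⟩
    rw [IsZero.iff_id_eq_zero]
    ext i
    exact i.elim0

/-- The sheaves in `LFin` are constructible. -/
theorem LFin.isConstructible [QuasiSeparatedSpace X] [IsNoetherianRing Λ] {F : EtModW.Mod Λ X}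
    (hF : LFin Λ X F) : EtModW.IsConstructible Λ F := by
  obtain ⟨m, W, hW, ⟨e⟩⟩ := hF
  refine (consM Λ X).prop_of_iso e.symm (isConstructible_biproduct _ fun i => ?_)
  have := hW i
  exact LFreePull.isConstructible_LM_of_affine (W i)

variable [CompactSpace X] [QuasiSeparatedSpace X] [IsNoetherianRing Λ]

/-- The inductive construction of resolutions is possible. -/
theorem hasCovers (K : CochainComplex (EtModW.Mod Λ X) ℤ) (b : ℤ)
    (hK : ∀ i, EtModW.IsConstructible Λ (K.homology i)) : HasCovers (LFin Λ X) K b := by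
  intro n _ S
  have h1 : coh (consM Λ X) (DerivedCategory.Q.obj S.F) :=
    coh_Q_of_terms _ _ fun i => (S.prop i).isConstructible
  have h2 : coh (consM Λ X) (DerivedCategory.Q.obj K) := (coh_Q_iff _ _).2 hK
  have h3 : coh (consM Λ X) (DerivedCategory.Q.obj (CochainComplex.mappingCone S.f)) :=
    (coh (consM Λ X)).ext_of_isTriangulatedClosed₃ _
      (DerivedCategory.mappingCone_triangle_distinguished S.f) h1 h2
  have h4 := (coh_Q_iff _ _).1 h3 n
  obtain ⟨m, W, hW, w, hw⟩ := exists_lift_LM ((CochainComplex.mappingCone S.f).homologyπ n) h4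
  exact ⟨_, ⟨m, W, hW, ⟨Iso.refl _⟩⟩, w, hw⟩

/-- A complex with constructible cohomology, zero in large degrees, has a bounded above resolution by finite
direct sums of sheaves `Λ[U]`, `U` affine. -/
theorem exists_resolution (K : CochainComplex (EtModW.Mod Λ X) ℤ) (b : ℤ)
    (hK : ∀ i, EtModW.IsConstructible Λ (K.homology i)) (hb : ∀ i > b, K.ExactAt i) :
    ∃ (F : CochainComplex (EtModW.Mod Λ X) ℤ) (f : F ⟶ K), (∀ i > b, IsZero (F.X i)) ∧
      (∀ i, LFin Λ X (F.X i)) ∧ QuasiIso f :=
  Groth.Agent.PerfB.LeftRes.exists_resolution K b hb (hasCovers K b hK)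

end K733.EtModResol
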