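import Groth.Agent.Sga4h.BidTens
import Groth.Agent.Sga4h.ModDLTensor
import Groth.Agent.PerfC.CxNat
import Groth.Agent.Etrest.ModCons

/-!
# Inverse image and derived tensor product of sheaves of `Λ`-modules on the étale site

For every morphism `f : Y ⟶ X` of schemes:
* `nonempty_pull_LTensorCx` : `f⁻¹ (K ⊗^L E) ≅ f⁻¹ K ⊗^L f⁻¹ E` in `D(Y_et, Λ)`.
-/

set_option autoImplicit false
universe u

open CategoryTheory CategoryTheory.Limits AlgebraicGeometry Opposite

attribute [local instance] HasDerivedCategory.standard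

namespace K733.TensPull

open Groth.Agent.Sga4h Groth.Agent.Sga4h.ModDTensor Groth.Agent.Sga4h.EtPts Groth.Agent.Sga4h.PModRes
  Groth.Agent.Sga4h.KProjFun Groth.Agent.Sga4h.ModDGood Groth.Agent.Sga4h.ModDLTensor Groth.Agent.Sga4h.BidTens
  Groth.Agent.Etrest.ModCons

variable {Λ : Type (u + 1)} [CommRing Λ]

section Point

variable {X : Scheme.{u}} (Φ : GrothendieckTopology.Point.{u} X.smallEtaleTopology)

attribute [local instance] preservesBinaryBiproducts_of_preservesBinaryCoproducts

variable (Λ) in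
/-- The fibre functor on presheaves at a point. -/
noncomputable abbrev pf : PMod Λ X ⥤ ModuleCat.{u + 1} Λ := Φ.presheafFiber

variable (Λ) in
/-- The skyscraper presheaf functor at a point. -/
noncomputable abbrev sky : ModuleCat.{u + 1} Λ ⥤ PMod Λ X := Φ.skyscraperPresheafFunctor

instance pf_additive : (pf Λ Φ).Additive :=
  have : (pf Λ Φ).IsLeftAdjoint := Φ.skyscraperPresheafAdjunction.isLeftAdjoint
  have : PreservesFiniteColimits (pf Λ Φ) := PreservesColimitsOfSize.preservesFiniteColimits.{u, u} _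
  Functor.additive_of_preservesBinaryBiproducts _

instance sky_additive : (sky Λ Φ).Additive :=
  (Φ.skyscraperPresheafAdjunction (A := ModuleCat.{u + 1} Λ)).right_adjoint_additive

instance sky_preservesEpimorphisms : (sky Λ Φ).PreservesEpimorphisms where
  preserves {M N} f _ := by
    have (U : X.Etaleᵒᵖ) : Epi (((sky Λ Φ).map f).app U) := epi_piMap Λ f
    exact NatTrans.epi_of_epi_app _

instance sky_preservesHomology : (sky Λ Φ).PreservesHomology := by
  have : PreservesLimitsOfSize.{0, 0} (sky Λ Φ) :=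
    (Φ.skyscraperPresheafAdjunction (A := ModuleCat.{u + 1} Λ)).rightAdjoint_preservesLimits
  exact (sky Λ Φ).preservesHomology_of_preservesEpis_and_kernels

theorem isKProjective_pf (P : CochainComplex (PMod Λ X) ℤ) [P.IsKProjective] :
    CochainComplex.IsKProjective (((pf Λ Φ).mapHomologicalComplex (ComplexShape.up ℤ)).obj P) :=
  isKProjective_map (Φ.skyscraperPresheafAdjunction (A := ModuleCat.{u + 1} Λ)) P

end Point

section Pull

variable {X Y : Scheme.{u}} (f : Y ⟶ X)

/-- `sh ⋙ f⁻¹ ⋙ (stalk at y)` is the fibre functor at the point below `y`. -/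
noncomputable def shPullStk (y : Y) :
    sh Λ X ⋙ EtModW.pull Λ f ⋙ stk Λ y ≅ pf Λ (below f y) :=
  Functor.isoWhiskerLeft (sh Λ X)
    ((gpt y).sheafFiberComapIso (EtCoh.bc f) (EtCoh.coverPreserving_bc f) (ModuleCat.{u + 1} Λ)).symm ≪≫
    (below f y).presheafToSheafCompSheafFiberIso (ModuleCat.{u + 1} Λ)

theorem good_pull_sh (P : CochainComplex (PMod Λ X) ℤ) [P.IsKProjective] :
    good (((EtModW.pull Λ f).mapHomologicalComplex (ComplexShape.up ℤ)).obj
      (((sh Λ X).mapHomologicalComplex (ComplexShape.up ℤ)).obj P)) := fun y => by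
  have := isKProjective_pf (below f y) P
  refine CochainComplex.isKProjective_of_iso (?_ : ((pf Λ (below f y)).mapHomologicalComplex
    (ComplexShape.up ℤ)).obj P ≅ _)
  exact HomologicalComplex.Hom.isoOfComponents (fun i => (shPullStk f y).symm.app (P.X i))
    (fun i j _ => ((shPullStk f y).symm.hom.naturality (P.d i j)).symm)

/-- Every object of the derived category is represented by a good complex whose inverse image is good. -/
theorem exists_good_rep (K : EtModD.D Λ X) : ∃ G : CochainComplex (EtModW.Mod Λ X) ℤ,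
    good G ∧ good (((EtModW.pull Λ f).mapHomologicalComplex (ComplexShape.up ℤ)).obj G) ∧
      Nonempty (DerivedCategory.Q.obj G ≅ K) := by
  obtain ⟨P, g, hP, hP', hg, -⟩ := exists_good (DerivedCategory.Q.objPreimage K)
  exact ⟨_, hP', good_pull_sh f P, ⟨asIso (DerivedCategory.Q.map g) ≪≫ DerivedCategory.Q.objObjPreimageIso K⟩⟩

instance preservesColimits_pull (J : Type) : PreservesColimitsOfShape (Discrete J) (EtModW.pull Λ f) :=
  (ppAdj f).leftAdjoint_preservesColimits.preservesColimitsOfShape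

/-- `f⁻¹ (G ⊗ E) ≅ f⁻¹ G ⊗ f⁻¹ E` on complexes. -/
noncomputable def pullTensorCx (G E : CochainComplex (EtModW.Mod Λ X) ℤ) :
    ((EtModW.pull Λ f).mapHomologicalComplex (ComplexShape.up ℤ)).obj
      (((EtModD.tensorCx Λ X).obj G).obj E) ≅
    ((EtModD.tensorCx Λ Y).obj (((EtModW.pull Λ f).mapHomologicalComplex (ComplexShape.up ℤ)).obj G)).obj
      (((EtModW.pull Λ f).mapHomologicalComplex (ComplexShape.up ℤ)).obj E) :=
  ((Groth.Agent.PerfC.CxNat.natIso (pullTensor Λ f)).app G).app E

/-- `f⁻¹ (K ⊗^L E) ≅ f⁻¹ K ⊗^L f⁻¹ E`. -/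
theorem nonempty_pull_LTensorCx (K : EtModD.D Λ X) (E : CochainComplex (EtModW.Mod Λ X) ℤ)
    [EtModD.HasLTensorCx E]
    [EtModD.HasLTensorCx (((EtModW.pull Λ f).mapHomologicalComplex (ComplexShape.up ℤ)).obj E)] :
    Nonempty ((EtModW.pull Λ f).mapDerivedCategory.obj ((EtModD.LTensorCx E).obj K) ≅
      (EtModD.LTensorCx (((EtModW.pull Λ f).mapHomologicalComplex (ComplexShape.up ℤ)).obj E)).obj
        ((EtModW.pull Λ f).mapDerivedCategory.obj K)) := by
  obtain ⟨G, hG, hG', ⟨e⟩⟩ := exists_good_rep f K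
  let e1 := (EtModW.pull Λ f).mapDerivedCategory.mapIso ((EtModD.LTensorCx E).mapIso e.symm ≪≫ lTensorIso E G hG)
  let e2 := (EtModW.pull Λ f).mapDerivedCategoryFactors.app (((EtModD.tensorCx Λ X).obj G).obj E)
  let e3 := DerivedCategory.Q.mapIso (pullTensorCx f G E)
  let e4 := lTensorIso (((EtModW.pull Λ f).mapHomologicalComplex (ComplexShape.up ℤ)).obj E) _ hG'
  let e5 := (EtModD.LTensorCx (((EtModW.pull Λ f).mapHomologicalComplex (ComplexShape.up ℤ)).obj E)).mapIso
    (((EtModW.pull Λ f).mapDerivedCategoryFactors.app G).symm ≪≫ (EtModW.pull Λ f).mapDerivedCategory.mapIso e)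
  exact ⟨e1 ≪≫ e2 ≪≫ e3 ≪≫ e4.symm ≪≫ e5⟩

end Pull

end K733.TensPull
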