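import Groth.Agent.EtModD.K733.Base
import Mathlib.Algebra.Homology.DerivedCategory.HomologySequence

/-!
# Lifting generators of a constructible sheaf along an epimorphism; maps from `F[-b]`
-/

set_option autoImplicit false
universe u v w

open CategoryTheory CategoryTheory.Limits AlgebraicGeometry Opposite

namespace K733.EtModLift

section Sheaf

open Groth.Agent.Etbase Groth.Agent.Etcore Groth.Agent.EtpbcA Groth.Agent.Etcore.LVan Groth.Agent.Etcore.LFreeGen
open Groth.Agent.Etcore.LFree K733.EtModBase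

attribute [local instance] Abelian.hasFiniteBiproducts

variable {Λ : Type (u + 1)} [CommRing Λ] {X : Scheme.{u}}

/-- Sections lift locally along an epimorphism, over affine étale neighbourhoods. -/
theorem exists_lift {A B : EtModW.Mod Λ X} (v : A ⟶ B) [Epi v] (U : X.Etale)
    (s : EtModW.sect Λ B U) (x : U.left) :
    ∃ (V : X.Etale) (_ : IsAffine V.left) (g : V ⟶ U) (w : V.left) (a : EtModW.sect Λ A V),
      g.left w = x ∧ ev v V a = res B g s := by
  obtain ⟨V, g, y, a, hy, ha⟩ := (epi_iff v).1 inferInstance U s x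
  obtain ⟨W, k, w, hW, hw, -⟩ := exists_affine_nhd V y
  refine ⟨W, hW, k ≫ g, w, res A k a, ?_, ?_⟩
  · rw [← hy, ← hw]
    rfl
  · rw [← res_ev, ha, res_comp]

/-- Over a quasi-compact and quasi-separated scheme: if `v : A ⟶ B` is an epimorphism and `B` is constructible,
there is a finite direct sum of sheaves `Λ[W]`, `W` affine, mapping to `A` and onto `B`. -/
theorem exists_lift_LM [CompactSpace X] [QuasiSeparatedSpace X] [IsNoetherianRing Λ]
    {A B : EtModW.Mod Λ X} (v : A ⟶ B) [Epi v] (hB : EtModW.IsConstructible Λ B) :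
    ∃ (m : ℕ) (W : Fin m → X.Etale) (_ : ∀ j, IsAffine (W j).left)
      (w : (⨁ fun j => LM Λ (W j)) ⟶ A), Epi (w ≫ v) := by
  obtain ⟨n, U, hU, s, hs⟩ := LPres.exists_generators hB
  choose V hV g w a hw ha using fun (i : Fin n) (x : (U i).left) => exists_lift v (U i) (s i) x
  have hcov : ∀ i, ∃ t : Finset (U i).left, ∀ x : (U i).left, ∃ y ∈ t, x ∈ Set.range (g i y).left := by
    intro i
    have := hU i
    have hcomp : CompactSpace (U i).left := inferInstance
    obtain ⟨t, ht⟩ := isCompact_univ.elim_finite_subcover (fun y : (U i).left => Set.range (g i y).left)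
      (fun y => by
        have : Etale (g i y).left := inferInstance
        exact (g i y).left.isOpenMap.isOpen_range)
      (fun x _ => Set.mem_iUnion.2 ⟨x, w i x, hw i x⟩)
    exact ⟨t, fun x => by
      obtain ⟨y, hy, hx⟩ := Set.mem_iUnion₂.1 (ht (Set.mem_univ x))
      exact ⟨y, hy, hx⟩⟩
  choose t ht using hcov
  obtain ⟨m, ⟨e⟩⟩ := Finite.exists_equiv_fin (Σ i : Fin n, {y // y ∈ t i})
  let W : Fin m → X.Etale := fun j => V (e.symm j).1 (e.symm j).2.1
  have hW : ∀ j, IsAffine (W j).left := fun j => hV _ _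
  let b : ∀ j, EtModW.sect Λ A (W j) := fun j => a (e.symm j).1 (e.symm j).2.1
  refine ⟨m, W, hW, biproduct.desc fun j => desc (b j), ?_⟩
  refine epi_of_generates U s (fun i x => ?_) hs
  obtain ⟨y, hy, z, hz⟩ := ht i x
  have key : ∀ (p : Σ i : Fin n, {y // y ∈ t i}) (j : Fin m) (_ : e.symm j = p)
      (z : (V p.1 p.2.1).left), LocRange (biproduct.desc (fun j => desc (b j)) ≫ v)
      (s p.1) ((g p.1 p.2.1).left z) := by
    rintro p j rfl z
    refine ⟨W j, g _ _, z, ev (biproduct.ι (fun j => LM Λ (W j)) j) (W j) (gen Λ (W j)), rfl, ?_⟩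
    rw [← comp_ev, biproduct.ι_desc_assoc, comp_ev, desc_gen]
    exact ha _ _
  rw [← hz]
  exact key ⟨i, ⟨y, hy⟩⟩ (e ⟨i, ⟨y, hy⟩⟩) (e.symm_apply_apply _) z

/-- A finite direct sum of sheaves `Λ[W]` is the coproduct of the sheaves `j_! Λ`. -/
theorem nonempty_biproduct_iso {m : ℕ} (W : Fin m → X.Etale) [∀ k, EtShriek.JCont (W k).hom] :
    Nonempty ((⨁ fun j => LM Λ (W j)) ≅
      ∐ fun k => (EtSix.extZeroMod Λ (W k).hom).obj (EtSix.constΛ Λ (W k).left)) :=
  ⟨(biproduct.isColimit _).coconePointUniqueUpToIso (coproductIsCoproduct _) ≪≫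
    Sigma.mapIso fun k => (nonempty_LM_iso_extZero' (W k)).some⟩

end Sheaf

section Derived

variable {A : Type u} [Category.{v} A] [Abelian A]

/-- A morphism `P ⟶ Z^b(K)` gives a morphism of complexes `P[-b] ⟶ K`. -/
theorem exists_hom_single (K : CochainComplex A ℤ) (b : ℤ) (P : A) (w : P ⟶ K.cycles b)
    (h : Epi (w ≫ K.homologyπ b)) :
    ∃ f : (HomologicalComplex.single A (ComplexShape.up ℤ) b).obj P ⟶ K,
      Epi (HomologicalComplex.homologyMap f b) := by
  let f : (HomologicalComplex.single A (ComplexShape.up ℤ) b).obj P ⟶ K :=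
    HomologicalComplex.mkHomFromSingle (w ≫ K.iCycles b) (by simp)
  refine ⟨f, ?_⟩
  have h1 : HomologicalComplex.cyclesMap f b =
      (HomologicalComplex.singleObjCyclesSelfIso (ComplexShape.up ℤ) b P).hom ≫ w := by
    rw [← cancel_mono (K.iCycles b), HomologicalComplex.cyclesMap_i, Category.assoc]
    simp only [f, HomologicalComplex.mkHomFromSingle_f]
    rw [← Category.assoc, HomologicalComplex.singleObjCyclesSelfIso_hom]
  have h2 : Epi (((HomologicalComplex.single A (ComplexShape.up ℤ) b).obj P).homologyπ b ≫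
      HomologicalComplex.homologyMap f b) := by
    rw [HomologicalComplex.homologyπ_naturality, h1, Category.assoc]
    exact epi_comp _ _
  exact epi_of_epi (((HomologicalComplex.single A (ComplexShape.up ℤ) b).obj P).homologyπ b) _

variable [HasDerivedCategory.{w} A]

theorem exists_hom_single_D (K : DerivedCategory A) (K' : CochainComplex A ℤ) (e : DerivedCategory.Q.obj K' ≅ K)
    (b : ℤ) (P : A) (w : P ⟶ K'.cycles b) (h : Epi (w ≫ K'.homologyπ b)) :
    ∃ φ : (DerivedCategory.singleFunctor A b).obj P ⟶ K,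
      Epi ((DerivedCategory.homologyFunctor A b).map φ) := by
  obtain ⟨f, hf⟩ := exists_hom_single K' b P w h
  refine ⟨((DerivedCategory.singleFunctorIsoCompQ A b).app P).hom ≫ DerivedCategory.Q.map f ≫ e.hom, ?_⟩
  have h1 : Epi ((DerivedCategory.homologyFunctor A b).map (DerivedCategory.Q.map f)) :=
    ((MorphismProperty.epimorphisms A).arrow_mk_iso_iff
      ((Functor.mapArrowFunctor _ _ |>.mapIso (DerivedCategory.homologyFunctorFactors A b)).app
        (Arrow.mk f))).2 hf
  rw [Functor.map_comp, Functor.map_comp]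
  exact epi_comp' inferInstance (epi_comp' h1 inferInstance)

end Derived

end K733.EtModLift
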