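import Groth.Agent.PerfB.LeftRes
import Groth.Agent.PerfA.Devissage
import Groth.Agent.PerfA.CohomIn
import Groth.Agent.PerfC.IsoLocus
import Mathlib.Algebra.Homology.DerivedCategory.HomologySequence

/-!
# Dévissage along approximations by bounded complexes

`P` a weak Serre class, `F` a triangulated functor which is bounded above, `R` a class of objects such that
`F(M[0])` has cohomology in `P` for `M` in `R`.  If `K` has approximations by bounded complexes with terms in `R`
(`Stage R K b m` for every `m`), then `F K` has cohomology in `P` (`coh_map_of_stages`).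
-/

set_option autoImplicit false
universe w v u

open CategoryTheory Category Limits Pretriangulated DerivedCategory

namespace K733.StageDev

open Groth.Agent.PerfC.IsoLocus Groth.Agent.PerfA.CohomIn Groth.Agent.PerfB.LeftRes

variable {A : Type u} [Category.{v} A] [Abelian A] [HasDerivedCategory.{w} A]
  (P : ObjectProperty A) [P.IsClosedUnderIsomorphisms] [P.ContainsZero]
  [P.IsClosedUnderKernels] [P.IsClosedUnderCokernels] [P.IsClosedUnderExtensions]
  (R : ObjectProperty A) {F : DerivedCategory A ⥤ DerivedCategory A} (hF : IsTriang F)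

include hF

theorem coh_shift (X : DerivedCategory A) (n : ℤ) (h : coh P (F.obj X)) : coh P (F.obj (X⟦n⟧)) := by
  obtain ⟨_, _⟩ := hF
  exact (coh P).prop_of_iso ((F.commShiftIso n).app X).symm ((coh P).le_shift n _ h)

theorem coh_single' (hs : ∀ M : A, R M → coh P (F.obj ((singleFunctor A 0).obj M))) (M : A) (hM : R M) (n : ℤ) :
    coh P (F.obj ((singleFunctor A n).obj M)) :=
  (coh P).prop_of_iso (F.mapIso (((singleFunctors A).shiftIso (-n) n 0 (by lia)).app M))
    (coh_shift P hF ((singleFunctor A 0).obj M) (-n) (hs M hM))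

/-- Bounded complexes with terms in `R`. -/
theorem coh_bounded (hs : ∀ M : A, R M → coh P (F.obj ((singleFunctor A 0).obj M)))
    (E : CochainComplex A ℤ) (a b : ℤ) (hE : ∀ i, i < a ∨ b < i → IsZero (E.X i)) (hR : ∀ i, R (E.X i)) :
    coh P (F.obj (Q.obj E)) := by
  have hs' := coh_single' P R hF hs
  obtain ⟨_, _⟩ := hF
  refine Groth.Agent.PerfA.Devissage.devissage (fun X => coh P (F.obj X))
    (fun e h => (coh P).prop_of_iso (F.mapIso e) h) (fun T hT h1 h3 => ?_) (fun X hX => ?_) E a b hE
    (fun i _ _ => hs' _ (hR i) i)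
  · exact (coh P).ext_of_isTriangulatedClosed₂ _ (F.map_distinguished T hT) h1 h3
  · have : IsZero (F.obj X) := Functor.map_isZero _ hX
    exact fun i => P.prop_of_isZero (Functor.map_isZero _ this)

/-- Bounded above complexes having approximations by bounded complexes with terms in `R`. -/
theorem coh_map_of_stages (b' : ℤ) (hb : ∀ (X : DerivedCategory A) (a : ℤ), X.IsLE a → (F.obj X).IsLE (a + b'))
    (hs : ∀ M : A, R M → coh P (F.obj ((singleFunctor A 0).obj M)))
    (K : CochainComplex A ℤ) (b : ℤ) (H : ∀ m, Nonempty (Stage R K b m)) : coh P (F.obj (Q.obj K)) := by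
  intro i
  obtain ⟨S⟩ := H (i - b' - 2 + 1)
  have h1 := coh_bounded P R hF hs S.F _ _ (fun j hj => hj.elim (S.zeroLT j) (S.zeroGT j)) S.prop
  obtain ⟨_, _⟩ := hF
  have h2 : (Q.obj (CochainComplex.mappingCone S.f)).IsLE (i - b' - 2) := by
    rw [DerivedCategory.isLE_iff]
    intro j hj
    exact (((HomologicalComplex.exactAt_iff_isZero_homology _ _).1
      (S.exactAt_mappingCone j (by lia)))).of_iso ((homologyFunctorFactors A j).app _)
  let T := F.mapTriangle.obj (Q.mapTriangle.obj (CochainComplex.mappingCone.triangle S.f))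
  have hT : T ∈ distTriang _ := F.map_distinguished _ (mappingCone_triangle_distinguished S.f)
  have h3 : T.obj₃.IsLE (i - b' - 2 + b') := hb _ _ h2
  have h4 : IsZero ((homologyFunctor A (i - 1)).obj T.obj₃) := isZero_of_isLE _ (i - b' - 2 + b') _ (by lia)
  have h5 : IsZero ((homologyFunctor A i).obj T.obj₃) := isZero_of_isLE _ (i - b' - 2 + b') _ (by lia)
  have h6 : Mono ((homologyFunctor A i).map T.mor₁) :=
    (HomologySequence.mono_homologyMap_mor₁_iff T hT (i - 1) i (by lia)).2 (h4.eq_of_src _ _)
  have h7 : Epi ((homologyFunctor A i).map T.mor₁) :=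
    (HomologySequence.epi_homologyMap_mor₁_iff T hT i).2 (h5.eq_of_tgt _ _)
  have h8 : IsIso ((homologyFunctor A i).map T.mor₁) := isIso_of_mono_of_epi _
  exact P.prop_of_iso (@asIso _ _ _ _ ((homologyFunctor A i).map T.mor₁) h8) (h1 i)

end K733.StageDev
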