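import Groth.Agent.EtModD.K733.TensPull
import Groth.Agent.EtModD.K733.StageDev
import Groth.Agent.EtModD.K733.Resol
import Groth.Agent.Sga5.H146.DTens
import Groth.Agent.Sga4h.ExtFree
import Groth.Agent.Dcoh.MapDer

/-!
# Tensor products and derived tensor products of constructible sheaves, arbitrary schemes

`Λ` Noetherian, `X` any scheme:
* `isConstructible_LM_tensor` : `Λ[U] ⊗ F` is constructible, `U` quasi-compact and quasi-separated over `X`;
* `isConstructible_HD_tensor` : the derived tensor product preserves `D⁻_c` (`X` quasi-compact and quasi-separated);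
* `isConstructible_HD_LTensorCx` : the same for every scheme `X`, in terms of `EtModD.LTensorCx`.
-/

set_option autoImplicit false
universe u

open CategoryTheory CategoryTheory.Limits AlgebraicGeometry MonoidalCategory Opposite

attribute [local instance] HasDerivedCategory.standard
attribute [local instance 5000] CategoryTheory.Abelian.toPreadditive
  CategoryTheory.Preadditive.preadditiveHasZeroMorphisms

namespace K733.TensCons

open Groth.Agent.Sga4h Groth.Agent.Sga4h.ModDTensor Groth.Agent.Etcore Groth.Agent.Etcore.LFree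
  Groth.Agent.Etcore.LVan Groth.Agent.Sga4h.ModRestr Groth.Agent.Sga4h.EtaleRes Groth.Agent.Sga4h.ExtFree
  Groth.Agent.EtpbcA.OverSite Groth.Agent.Sga4h.Dbc323 Groth.Agent.PerfA.CohomIn Groth.Agent.Sga5.H836.EtD
  Groth.Agent.Sga5.H146.DTens Groth.Agent.PerfB.LeftRes K733.EtModBase K733.EtModResol
open scoped Groth.Agent.Sga5.H835.MonEt Groth.Agent.Sga4h.ModInst Groth.Agent.Sga5.H836.EtD

attribute [local instance] Abelian.hasFiniteBiproducts Groth.Agent.Sga4h.EtaleRes.jCont

variable {Λ : Type (u + 1)} [CommRing Λ] {X : Scheme.{u}}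

variable (Λ) in
/-- `Λ[U] ⊗ F ≅ j_! j⁻¹ F`. -/
noncomputable def LMTensorIso (U : X.Etale) :
    (EtModD.tensorBi Λ X).obj (LM Λ U) ≅ Groth.Agent.Sga4h.ModRestr.res Λ (str U) ⋙ ext Λ (str U) :=
  (tensorAdj (represents_LM U)).leftAdjointUniq ((resPushAdj Λ (str U)).comp (extResAdj Λ (str U)))

variable [IsNoetherianRing Λ]

theorem isConstructible_LM_tensor (U : X.Etale) [QuasiCompact U.hom] [QuasiSeparated U.hom] {F : EtModW.Mod Λ X}
    (hF : EtModW.IsConstructible Λ F) :
    EtModW.IsConstructible Λ (((EtModD.tensorBi Λ X).obj (LM Λ U)).obj F) := by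
  refine LCrit.isConstructible_of_iso ((LMTensorIso Λ U).app F).symm ?_
  refine isConstructible_ext (j := str U) ?_
  exact LCrit.isConstructible_of_iso ((pullIsoRes (str U)).app F) (LCrit.isConstructible_pull (str U) F hF)

/-- `HD (M[0] ⊗ L)` is constructible for `M` a finite sum of `Λ[U]` and `L` with constructible cohomology. -/
theorem coh_single_tensor [QuasiSeparatedSpace X] (L : EtModD.D Λ X) (hL : coh (consM Λ X) L)
    (M : EtModW.Mod Λ X) (hM : LFin Λ X M) :
    coh (consM Λ X) ((tensorRight L).obj ((DerivedCategory.singleFunctor _ 0).obj M)) := by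
  obtain ⟨m, W, hW, ⟨e⟩⟩ := hM
  intro i
  have h3 := Groth.Agent.Sga5.H836.TensEt.additive_tensorRight L
  let Φ : EtModW.Mod Λ X ⥤ EtModW.Mod Λ X := DerivedCategory.singleFunctor _ 0 ⋙
    tensorRight L ⋙ DerivedCategory.homologyFunctor _ i
  have h4 : Φ.Additive := inferInstance
  refine LCrit.isConstructible_of_iso (Φ.mapIso e ≪≫ Φ.mapBiproduct fun j => LM Λ (W j)).symm
    (isConstructible_biproduct _ fun j => ?_)
  have := hW j
  have h1 : QuasiCompact (W j).hom := quasiCompact_of_compactSpace (X := (W j).left) (Y := X) (W j).hom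
  have h2 : QuasiSeparated (W j).hom :=
    have : QuasiSeparatedSpace (W j).left := inferInstance
    Groth.Agent.EtpbcA.GeomSplit.quasiSeparated_of_space (A := (W j).left) (B := X) (W j).hom
  obtain ⟨e'⟩ := nonempty_HD (W j) L i
  refine LCrit.isConstructible_of_iso ?_ (isConstructible_LM_tensor (W j) (hL i))
  exact ((flipObjIso (LM Λ (W j))).app _).symm ≪≫ e'.symm ≪≫
    (DerivedCategory.homologyFunctor _ i).mapIso (β_ _ _)

/-- The derived tensor product preserves `D⁻_c`, `X` quasi-compact and quasi-separated. -/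
theorem coh_tensor [CompactSpace X] [QuasiSeparatedSpace X] (K L : EtModD.D Λ X) (a b : ℤ) [K.IsLE a] [L.IsLE b]
    (hK : coh (consM Λ X) K) (hL : coh (consM Λ X) L) : coh (consM Λ X) (K ⊗ L) := by
  let K' := DerivedCategory.Q.objPreimage K
  let e : DerivedCategory.Q.obj K' ≅ K := DerivedCategory.Q.objObjPreimageIso K
  have h1 : ∀ i, EtModW.IsConstructible Λ (K'.homology i) :=
    (coh_Q_iff (consM Λ X) K').1 ((coh (consM Λ X)).prop_of_iso e.symm hK)
  have h2 : ∀ i > a, K'.ExactAt i := fun i hi => by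
    rw [HomologicalComplex.exactAt_iff_isZero_homology]
    exact (K.isZero_of_isLE a i hi).of_iso (((DerivedCategory.homologyFunctor _ i).mapIso e).symm ≪≫
        (DerivedCategory.homologyFunctorFactors _ i).app K').symm
  have h3 := hasCovers K' a h1
  refine (coh (consM Λ X)).prop_of_iso ((tensorRight L).mapIso e) ?_
  exact K733.StageDev.coh_map_of_stages (consM Λ X) (LFin Λ X)
    (Groth.Agent.Sga5.H836.TensEt.isTriang_tensorRight L) b
    (fun Y c _ => Groth.Agent.Sga5.H836.TensEt.isLE_tensor Y L c b)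
    (coh_single_tensor L hL) K' a (fun m => Stage.nonempty h2 m (fun n _ hn S => h3 n hn S))

/-- The derived tensor product preserves `D⁻_c`, every scheme `X`. -/
theorem coh_LTensorCx (K : EtModD.D Λ X) (E : CochainComplex (EtModW.Mod Λ X) ℤ) [EtModD.HasLTensorCx E] (a b : ℤ)
    [K.IsLE a] [(DerivedCategory.Q.obj E).IsLE b] (hK : coh (consM Λ X) K)
    (hE : coh (consM Λ X) (DerivedCategory.Q.obj E)) : coh (consM Λ X) ((EtModD.LTensorCx E).obj K) := by
  intro i
  have key : ∀ x : X, ∃ W : X.Opens, IsAffineOpen W ∧ x ∈ W := fun x => by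
    obtain ⟨W, hW, hx, -⟩ := exists_isAffineOpen_mem_and_subset (X := X) (U := (⊤ : X.Opens))
      (x := x) (by trivial)
    exact ⟨W, hW, hx⟩
  choose W hW hxW using key
  refine LCrit.isConstructible_of_open_cover _ W (fun x => ⟨x, hxW x⟩) fun x => ?_
  have hWx : IsAffine (W x).toScheme := hW x
  let j := (W x).ι
  let E' := ((EtModW.pull Λ j).mapHomologicalComplex (ComplexShape.up ℤ)).obj E
  have hE' : EtModD.HasLTensorCx E' := ModDLTensor.hasLTensorCx E'
  obtain ⟨e⟩ := K733.TensPull.nonempty_pull_LTensorCx j K E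
  have hpull : ∀ M : EtModD.D Λ X, coh (consM Λ X) M → coh (consM Λ (W x).toScheme)
      ((EtModW.pull Λ j).mapDerivedCategory.obj M) := fun M hM n =>
    LCrit.isConstructible_of_iso (Groth.Agent.Dcoh.MapDer.homologyMapDerApp (EtModW.pull Λ j) n M).symm
      (LCrit.isConstructible_pull j _ (hM n))
  have h1 : ((EtModW.pull Λ j).mapDerivedCategory.obj K).IsLE a :=
    Groth.Agent.Dcoh.MapDer.isLE_map (EtModW.pull Λ j) a K
  have h2 : ((EtModW.pull Λ j).mapDerivedCategory.obj (DerivedCategory.Q.obj E)).IsLE b :=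
    Groth.Agent.Dcoh.MapDer.isLE_map (EtModW.pull Λ j) b (DerivedCategory.Q.obj E)
  have h3 : coh (consM Λ (W x).toScheme) (DerivedCategory.Q.obj E') :=
    (coh (consM Λ _)).prop_of_iso ((EtModW.pull Λ j).mapDerivedCategoryFactors.app E) (hpull _ hE)
  have h4 : (DerivedCategory.Q.obj E').IsLE b := by
    rw [DerivedCategory.isLE_iff] at h2 ⊢
    exact fun n hn => (h2 n hn).of_iso ((DerivedCategory.homologyFunctor _ n).mapIso
      ((EtModW.pull Λ j).mapDerivedCategoryFactors.app E)).symm
  have h5 := coh_tensor ((EtModW.pull Λ j).mapDerivedCategory.obj K) (DerivedCategory.Q.obj E') a b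
    (hpull K hK) h3
  refine LCrit.isConstructible_of_iso ?_ (h5 i)
  exact (DerivedCategory.homologyFunctor _ i).mapIso
    ((((lTensorIso E').app ((EtModW.pull Λ j).mapDerivedCategory.obj K))).symm ≪≫ e.symm) ≪≫
    Groth.Agent.Dcoh.MapDer.homologyMapDerApp (EtModW.pull Λ j) i _

end K733.TensCons
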